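import Mathlib
import Cfsg.Agent.H958.SixC.Conc
import Cfsg.Agent.H958.SixC.Hex2
import Cfsg.Agent.H944.E6CovFit
import Cfsg.Agent.H801.SixS

/-!
# S5927, S5928: `sixc_two`, the two modules as representations of the preimage (helper958)
-/

set_option autoImplicit false

namespace Cfsg.Agent.H163.E6.SixC

open Cfsg Cfsg.Lie Module Equiv
open Cfsg.Agent.ChevalleyStructure.E6Min.Tables Cfsg.Agent.ChevalleyStructure.E6Min.Basic
  Cfsg.Agent.ChevalleyStructure.E6Min.Adjoint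
open Cfsg.Agent.H952.F4 (ev es matRep sh cr tf MaxAlt)
open Cfsg.Agent.H958.SixC

universe u

variable {F : Type u} [Field F] {φ : ↥(alternatingGroup (Fin 6)) →* ↥(chevE6.group F)}

/-- the representation of the preimage -/
noncomputable abbrev rP (φ : ↥(alternatingGroup (Fin 6)) →* ↥(chevE6.group F))
    (ρ : Representation F ↥(Zgrp F) (I27 → F)) : Representation F ↥(φ.range.comap (ad F)) (I27 → F) :=
  MonoidHom.comp ρ (φ.range.comap (ad F)).subtype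

/-- the pairs of modules -/
def Pr (ρ ρ' : Representation F ↥(Zgrp F) (I27 → F)) : Prop := (ρ = V F ∧ ρ' = V' F) ∨ (ρ = V' F ∧ ρ' = V F)

theorem Pr.symm {ρ ρ' : Representation F ↥(Zgrp F) (I27 → F)} (h : Pr ρ ρ') : Pr ρ' ρ := by
  rcases h with ⟨h1, h2⟩ | ⟨h1, h2⟩
  · exact Or.inr ⟨h2, h1⟩
  · exact Or.inl ⟨h2, h1⟩

theorem Pr.left {ρ ρ' : Representation F ↥(Zgrp F) (I27 → F)} (h : Pr ρ ρ') : ρ = V F ∨ ρ = V' F := by
  rcases h with ⟨h1, h2⟩ | ⟨h1, h2⟩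
  · exact Or.inl h1
  · exact Or.inr h1

theorem Pr.right {ρ ρ' : Representation F ↥(Zgrp F) (I27 → F)} (h : Pr ρ ρ') : ρ' = V F ∨ ρ' = V' F := h.symm.left

theorem Pr.sh {ρ ρ' : Representation F ↥(Zgrp F) (I27 → F)} (h : Pr ρ ρ') (g : ↥(Zgrp F)) (x : I27 → F) :
    ρ' g (sh x) = Cfsg.Agent.H952.F4.sh (ρ g x) := by
  rcases h with ⟨rfl, rfl⟩ | ⟨rfl, rfl⟩
  · exact (Act.sh_act g x).symm
  · exact (Act.sh_act' g x).symm

theorem Pr.cr {ρ ρ' : Representation F ↥(Zgrp F) (I27 → F)} (h : Pr ρ ρ') (g : ↥(Zgrp F)) (x y : I27 → F) :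
    ρ' g (cr x y) = Cfsg.Agent.H952.F4.cr (ρ g x) (ρ g y) := by
  rcases h with ⟨rfl, rfl⟩ | ⟨rfl, rfl⟩
  · exact (Act.cr_act g x y).symm
  · exact (Act.cr_act' g x y).symm

theorem st_iff {ρ : Representation F ↥(Zgrp F) (I27 → F)} {W : Submodule F (I27 → F)} :
    St (rP φ ρ) W ↔ Stab ρ φ.range W :=
  ⟨fun h g hg w hw => h ⟨g, hg⟩ w hw, fun h g w hw => h g g.2 w hw⟩

theorem hd [Finite F] (hφ : Function.Injective φ) {ω : Fˣ} (hc : Cover φ ω) {ρ : Representation F ↥(Zgrp F) (I27 → F)}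
    (hρ : ρ = V F ∨ ρ = V' F) (W : Submodule F (I27 → F)) (hW : St (rP φ ρ) W) : 3 ∣ finrank F ↥W :=
  H944.E6CovFit.three_dvd hφ hc hρ (st_iff.1 hW)

theorem div3 [Finite F] (hφ : Function.Injective φ) {ω : Fˣ} (hc : Cover φ ω) : Div3 φ := fun _ hρ _ hW =>
  H944.E6CovFit.three_dvd hφ hc hρ hW

theorem ne_one {ω : Fˣ} (h : ω ≠ 1) : (ω : F) ≠ 1 := fun h1 => h (Units.ext h1)

theorem cube_one {ω : Fˣ} (h : ω ^ 3 = 1) : (ω : F) ^ 3 = 1 := by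
  have := congrArg (fun x : Fˣ => (x : F)) h
  simpa using this

theorem coe_scalC (c : Fˣ) : ((scal c : GL I27 F) : Matrix I27 I27 F) = (c : F) • (1 : Matrix I27 I27 F) :=
  Algebra.algebraMap_eq_smul_one (c : F)

theorem V_scalC {g : ↥(Zgrp F)} {c : Fˣ} (h : (g : GL I27 F) = scal c) (w : I27 → F) : V F g w = (c : F) • w := by
  rw [Cfsg.Agent.H163.E6.V_apply, h, coe_scalC, Matrix.smul_mulVec, Matrix.one_mulVec]

theorem V'_scalC {g : ↥(Zgrp F)} {c : Fˣ} (h : (g : GL I27 F) = scal c) (w : I27 → F) :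
    V' F g w = ((c⁻¹ : Fˣ) : F) • w := by
  have h1 : (scal c : GL I27 F)⁻¹ = scal c⁻¹ := (map_inv (Units.map
    (algebraMap F (Matrix I27 I27 F)).toMonoidHom) c).symm
  have h2 : Cfsg.Agent.H184.GraphE6.dual (scal c : GL I27 F) = scal c⁻¹ := by
    refine Units.ext ?_
    rw [Cfsg.Agent.H184.GraphE6.coe_dual, h1, coe_scalC, Matrix.transpose_smul, Matrix.transpose_one]
  have h3 : ((Cfsg.Agent.H184.GraphE6.gU (scal c) : GL I27 F) : Matrix I27 I27 F) =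
      ((c⁻¹ : Fˣ) : F) • (1 : Matrix I27 I27 F) := by
    rw [Cfsg.Agent.H184.GraphE6.gU, h2, Units.val_mul, Units.val_mul, Cfsg.Agent.H184.GraphE6.coe_PU, coe_scalC,
      Matrix.mul_smul, Matrix.smul_mul, Matrix.mul_one, Cfsg.Agent.H184.GraphE6.PM_sq]
  rw [Cfsg.Agent.H163.E6.V'_apply, h, h3, Matrix.smul_mulVec, Matrix.one_mulVec]

theorem ch_V {ω : Fˣ} (h1 : ω ≠ 1) (h3 : ω ^ 3 = 1) {ζ : ↥(φ.range.comap (ad F))}
    (hζ : ((ζ : ↥(Zgrp F)) : GL I27 F) = scal ω) : Ch (rP φ (V F)) ζ (ω : F) :=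
  ⟨fun v => V_scalC hζ v, ne_one h1, cube_one h3⟩

theorem ch_V' {ω : Fˣ} (h1 : ω ≠ 1) (h3 : ω ^ 3 = 1) {ζ : ↥(φ.range.comap (ad F))}
    (hζ : ((ζ : ↥(Zgrp F)) : GL I27 F) = scal ω) : Ch (rP φ (V' F)) ζ ((ω⁻¹ : Fˣ) : F) :=
  ⟨fun v => V'_scalC hζ v, ne_one (inv_ne_one.2 h1), cube_one (by rw [inv_pow, h3, inv_one])⟩

theorem exists_ne : ∃ v : I27 → F, v ≠ 0 := ⟨fun _ => 1, fun h => one_ne_zero (congrFun h (0 : I27))⟩

theorem smul_eq {a b : F} {v : I27 → F} (hv : v ≠ 0) (h : a • v = b • v) : a = b := by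
  have h1 : (a - b) • v = 0 := by rw [sub_smul, h, sub_self]
  exact sub_eq_zero.1 ((smul_eq_zero.1 h1).resolve_right hv)

theorem inv_eq_sq {ω : Fˣ} (h3 : ω ^ 3 = 1) : ((ω⁻¹ : Fˣ) : F) = (ω : F) * ω := by
  have h : ω⁻¹ = ω * ω := by
    rw [inv_eq_iff_mul_eq_one, ← h3, pow_succ, pow_two, mul_assoc]
  rw [h, Units.val_mul]

/-- the scalar of `β` in the two modules -/
theorem sc_pr {ω : Fˣ} (h3 : ω ^ 3 = 1) {ζ β : ↥(φ.range.comap (ad F))}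
    (hζ : ((ζ : ↥(Zgrp F)) : GL I27 F) = scal ω) (hβ : β = ζ ∨ β = ζ⁻¹)
    {ρ ρ' : Representation F ↥(Zgrp F) (I27 → F)} (hp : Pr ρ ρ') {b : F} (hs : Sc (rP φ ρ) β b) :
    Sc (rP φ ρ') β (b * b) := by
  obtain ⟨v0, hv0⟩ := exists_ne (F := F)
  have hb := hs.b2
  have h2 := hs.two
  have hb3 : b * b * b = 1 := by grind
  have hω3 : (ω : F) * ω * ω = 1 := by
    have := cube_one h3
    rw [← this]; ring
  -- `ω` on `V` and `ω²` on `V'`
  have key : ∃ x y : F, (∀ v, ρ ζ v = x • v) ∧ (∀ v, ρ' ζ v = y • v) ∧ x * y = 1 ∧ x * x * x = 1 ∧ y * y * y = 1 := by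
    rcases hp with ⟨rfl, rfl⟩ | ⟨rfl, rfl⟩
    · refine ⟨(ω : F), (ω : F) * ω, fun v => V_scalC hζ v, fun v => ?_, ?_, hω3, ?_⟩
      · rw [V'_scalC hζ, inv_eq_sq h3]
      · rw [← mul_assoc]; exact hω3
      · grind
    · refine ⟨(ω : F) * ω, (ω : F), fun v => ?_, fun v => V_scalC hζ v, ?_, ?_, hω3⟩
      · rw [V'_scalC hζ, inv_eq_sq h3]
      · exact hω3
      · grind
  obtain ⟨x, y, hx, hy, hxy, hx3, hy3⟩ := key
  refine ⟨fun v => ?_, by grind, h2⟩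
  rcases hβ with rfl | rfl
  · have e1 : b = x := smul_eq hv0 ((hs.act v0).symm.trans (hx v0))
    subst e1
    refine (hy v).trans ?_
    congr 1
    grind
  · have e0 : ρ ((ζ⁻¹ : ↥(φ.range.comap (ad F))) : ↥(Zgrp F)) v0 = (x * x) • v0 := by
      have h4 : ρ ((ζ : ↥(Zgrp F))⁻¹) ((x * x * x) • v0) = (x * x) • v0 := by
        rw [mul_smul, mul_smul, ← hx, map_smul, map_smul]
        rw [← rho_mul, inv_mul_cancel, map_one, mul_smul]
        rfl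
      rw [hx3, one_smul] at h4
      exact h4
    have e1 : b = x * x := smul_eq hv0 ((hs.act v0).symm.trans e0)
    have e2 : ρ' ((ζ : ↥(Zgrp F))⁻¹) v = (y * y) • v := by
      have h4 : ρ' ((ζ : ↥(Zgrp F))⁻¹) ((y * y * y) • v) = (y * y) • v := by
        rw [mul_smul, mul_smul, ← hy, map_smul, map_smul]
        rw [← rho_mul, inv_mul_cancel, map_one, mul_smul]
        rfl
      rw [hy3, one_smul] at h4
      exact h4
    show ρ' ((ζ : ↥(Zgrp F))⁻¹) v = _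
    rw [e2, e1]
    congr 1
    grind

end Cfsg.Agent.H163.E6.SixC
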