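import Mathlib
import Cfsg.Agent.H958.SixC.Hex2
import Cfsg.Agent.H801.SixS

/-!
# S5927, S5928: `sixc_two`, types of 3-dimensional modules (helper958)
-/

set_option autoImplicit false
set_option linter.unusedSectionVars false

namespace Cfsg.Agent.H958.SixC

open Module
open Cfsg.Agent.H952.F4 (ev es)

variable {F P M : Type*} [Field F] [CharP F 2] [Group P] [AddCommGroup M] [Module F M] [FiniteDimensional F M]
variable {ρ : Representation F P M} {ζ z g g₁ g₂ β t a : P} {b c : F}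

theorem two_zero : (2 : F) = 0 := CharTwo.two_eq_zero

theorem Sc.of_Ch (hc : Ch ρ ζ c) : Sc ρ ζ c :=
  ⟨hc.act, by have := cube_sum hc.ne hc.cube; grind, two_zero⟩

theorem Sc.inv (hs : Sc ρ β b) : Sc ρ β⁻¹ (b * b) := by
  have hb := hs.b2
  have h2 := hs.two
  have hb3 : b * b * b = 1 := by grind
  refine ⟨fun v => ?_, by grind, h2⟩
  have h4 : ρ β⁻¹ ((b * b * b) • v) = (b * b) • v := by
    rw [mul_smul, mul_smul, ← hs.act, map_smul, map_smul, inv_ap, mul_smul]
  rw [hb3, one_smul] at h4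
  exact h4

/-- stable subspaces have dimension divisible by 3 -/
theorem dvd_of (hF : Full ζ z g₁ g₂ β t a) (hc : Ch ρ ζ c) (W : Submodule F M) (hW : St ρ W) : 3 ∣ finrank F ↥W := by
  have h := three_ev (ρ := ρ.subrepresentation W (fun g w hw => hW g w hw)) (ζ := ζ) (y := a) (c := c)
    ⟨fun v => Subtype.ext (hc.act v), hc.ne, hc.cube⟩ hF.a3 hF.ta
  exact ⟨_, h.symm⟩

/-- the average over `⟨z⟩` -/
noncomputable def avg (T : M →ₗ[F] M) : M →ₗ[F] M := 1 + T + T * T + T * T * T + T * T * T * T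

theorem avg_apply (T : M →ₗ[F] M) (v : M) : avg T v = v + T v + T (T v) + T (T (T v)) + T (T (T (T v))) := rfl

theorem avg_fix {T : M →ₗ[F] M} (hT : ∀ v, T (T (T (T (T v)))) = v) (v : M) : T (avg T v) = avg T v := by
  rw [avg_apply]
  simp only [map_add]
  rw [hT]
  abel

theorem avg_of_fix {T : M →ₗ[F] M} {v : M} (hv : T v = v) : avg T v = v := by
  rw [avg_apply, hv, hv, hv, hv]
  have h2 : (2 : F) • v = 0 := by rw [two_zero, zero_smul]
  rw [two_smul] at h2
  rw [h2, zero_add, h2, zero_add]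

theorem fun_avg {T : M →ₗ[F] M} {f : M →ₗ[F] F} (hf : ∀ v, f (T v) = f v) (v : M) : f (avg T v) = f v := by
  rw [avg_apply]
  simp only [map_add, hf]
  have h2 := two_zero (F := F)
  grind

theorem z_five (hz : z ^ 5 = 1) (v : M) : ρ z (ρ z (ρ z (ρ z (ρ z v)))) = v := by
  rw [← mul_ap, ← mul_ap, ← mul_ap, ← mul_ap, five_mul z, hz, map_one]
  rfl

/-- a vector fixed by both subgroups `A₅` is zero -/
theorem both_fix (hF : Full ζ z g₁ g₂ β t a) (hc : Ch ρ ζ c) {v : M} (h1 : KF ρ z g₁ v) (h2 : KF ρ z g₂ v) : v = 0 := by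
  have key : ∀ x : P, ρ x v = v := by
    intro x
    have hx : x ∈ Subgroup.closure {z, xx z g₁, xx z g₂} := by rw [hF.gen12]; exact Subgroup.mem_top x
    induction hx using Subgroup.closure_induction with
    | mem y hy =>
      rcases hy with rfl | rfl | rfl
      · exact h1.1
      · exact h1.2
      · exact h2.2
    | one => rw [map_one]; rfl
    | mul x y _ _ hx hy => rw [mul_ap, hy, hx]
    | inv x _ hx => exact inv_eq hx
  have h3 := hc.act v
  rw [key] at h3
  have h4 : (c - 1) • v = 0 := by rw [sub_smul, one_smul, ← h3, sub_self]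
  exact (smul_eq_zero.1 h4).resolve_left (sub_ne_zero.2 hc.ne)

/-- a functional fixed by both subgroups `A₅` is zero -/
theorem both_fun (hF : Full ζ z g₁ g₂ β t a) (hc : Ch ρ ζ c) {f : M →ₗ[F] F} (h0 : ∀ v, f (ρ z v) = f v)
    (h1 : ∀ v, f (ρ (xx z g₁) v) = f v) (h2 : ∀ v, f (ρ (xx z g₂) v) = f v) : f = 0 := by
  have key : ∀ x : P, ∀ v, f (ρ x v) = f v := by
    intro x
    have hx : x ∈ Subgroup.closure {z, xx z g₁, xx z g₂} := by rw [hF.gen12]; exact Subgroup.mem_top x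
    induction hx using Subgroup.closure_induction with
    | mem y hy =>
      rcases hy with rfl | rfl | rfl
      · exact h0
      · exact h1
      · exact h2
    | one => intro v; rw [map_one]; rfl
    | mul x y _ _ hx hy => intro v; rw [mul_ap, hx, hy]
    | inv x _ hx => intro v; rw [← hx (ρ x⁻¹ v), ap_inv]
  apply LinearMap.ext
  intro v
  have h3 := key ζ v
  rw [hc.act, map_smul, smul_eq_mul] at h3
  have h4 : (c - 1) * f v = 0 := by rw [sub_mul, h3, one_mul, sub_self]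
  exact (mul_eq_zero.1 h4).resolve_left (sub_ne_zero.2 hc.ne)

/-- the fixed space of `z` on a 3-dimensional module is 1-dimensional -/
theorem ev_one (hF : Full ζ z g₁ g₂ β t a) (hc : Ch ρ ζ c) (h3 : finrank F M = 3) : ev (ρ z) 1 = 1 := by
  have h1 := ev_le hF ρ hc
  have h2 := even_sub hF.h1.z5 hF.tt hF.tz ρ
  rw [h3] at h1 h2
  obtain ⟨k, hk⟩ := h2
  omega

/-- proportional fixed vectors -/
theorem fix_prop (h1 : ev (ρ z) 1 = 1) {v w : M} (hv : ρ z v = v) (hw : ρ z w = w) (h0 : w ≠ 0) : ∃ s : F, v = s • w := by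
  have hv' : v ∈ Module.End.eigenspace (ρ z) 1 := by rw [Module.End.mem_eigenspace_iff, one_smul]; exact hv
  have hw' : w ∈ Module.End.eigenspace (ρ z) 1 := by rw [Module.End.mem_eigenspace_iff, one_smul]; exact hw
  obtain ⟨s, hs⟩ := (finrank_eq_one_iff_of_nonzero' (⟨w, hw'⟩ : ↥(Module.End.eigenspace (ρ z) 1))
    (fun h => h0 (congrArg Subtype.val h))).1 h1 ⟨v, hv'⟩
  exact ⟨s, (congrArg Subtype.val hs).symm⟩

theorem KF.smul {w : M} (k : KF ρ z g w) (s : F) : KF ρ z g (s • w) := by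
  refine ⟨?_, ?_⟩
  · rw [map_smul, k.1]
  · rw [map_smul, k.2]

theorem KF.add {v w : M} (k : KF ρ z g v) (k' : KF ρ z g w) : KF ρ z g (v + w) := by
  refine ⟨?_, ?_⟩
  · rw [map_add, k.1, k'.1]
  · rw [map_add, k.2, k'.2]

/-- **types** : a 3-dimensional module has exactly one type -/
theorem types (hF : Full ζ z g₁ g₂ β t a) (hc : Ch ρ ζ c) (h3 : finrank F M = 3) :
    ((∃ w, w ≠ 0 ∧ KF ρ z g₁ w) ∧ (∀ w, KF ρ z g₂ w → w = 0) ∧
      ∃ f : M →ₗ[F] F, f ≠ 0 ∧ (∀ v, f (ρ z v) = f v) ∧ ∀ v, f (ρ (xx z g₂) v) = f v) ∨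
    ((∃ w, w ≠ 0 ∧ KF ρ z g₂ w) ∧ (∀ w, KF ρ z g₁ w → w = 0) ∧
      ∃ f : M →ₗ[F] F, f ≠ 0 ∧ (∀ v, f (ρ z v) = f v) ∧ ∀ v, f (ρ (xx z g₁) v) = f v) := by
  have e1 := ev_one hF hc h3
  have hlt : finrank F M < 6 * ev (ρ z) 1 := by rw [h3, e1]; norm_num
  -- not both fixed vectors
  have hA : ∀ w w', w ≠ 0 → KF ρ z g₁ w → KF ρ z g₂ w' → w' = 0 := by
    intro w w' h0 k k'
    obtain ⟨s, rfl⟩ := fix_prop e1 k'.1 k.1 h0
    exact both_fix hF hc (k.smul s) k'
  -- not both functionals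
  have hB : ∀ f f' : M →ₗ[F] F, f ≠ 0 → (∀ v, f (ρ z v) = f v) → (∀ v, f (ρ (xx z g₁) v) = f v) →
      (∀ v, f' (ρ z v) = f' v) → (∀ v, f' (ρ (xx z g₂) v) = f' v) → f' = 0 := by
    intro f f' hf h1 h2 h1' h2'
    obtain ⟨u, hu0, hu⟩ : ∃ u : M, u ≠ 0 ∧ ρ z u = u := by
      have hpos : 0 < ev (ρ z) 1 := by rw [e1]; exact Nat.one_pos
      rw [ev, Module.finrank_pos_iff] at hpos
      obtain ⟨⟨u, hu⟩, hne⟩ := exists_ne (0 : ↥(Module.End.eigenspace (ρ z) 1))
      rw [Module.End.mem_eigenspace_iff, one_smul] at hu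
      exact ⟨u, fun h => hne (Subtype.ext h), hu⟩
    -- functionals are determined by the value at `u`
    have key : ∀ v, f u • f' v = f' u • f v := by
      intro v
      obtain ⟨s, hs⟩ := fix_prop e1 (avg_fix (T := ρ z) (fun v => z_five hF.h1.z5 v) v) hu hu0
      rw [← fun_avg h1 v, ← fun_avg h1' v, hs, map_smul, map_smul]
      simp only [smul_eq_mul]
      ring
    have hfu : f u ≠ 0 := by
      intro h
      apply hf
      apply LinearMap.ext
      intro v
      obtain ⟨s, hs⟩ := fix_prop e1 (avg_fix (T := ρ z) (fun v => z_five hF.h1.z5 v) v) hu hu0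
      rw [← fun_avg h1 v, hs, map_smul, h, smul_zero]
      rfl
    have hf' : f' = (f' u / f u) • f := by
      apply LinearMap.ext
      intro v
      have := key v
      simp only [smul_eq_mul] at this
      rw [LinearMap.smul_apply, smul_eq_mul]
      field_simp
      linear_combination this
    apply both_fun hF hc h1' ?_ h2'
    intro v
    rw [hf', LinearMap.smul_apply, LinearMap.smul_apply, h2]
  rcases fourfix hF.h1 ρ hc hlt with ⟨w, h0, k⟩ | ⟨f, hf, f1, f2⟩
  · left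
    refine ⟨⟨w, h0, k⟩, fun w' k' => hA w w' h0 k k', ?_⟩
    rcases fourfix hF.h2 ρ hc hlt with ⟨w', h0', k'⟩ | ⟨f, hf, f1, f2⟩
    · exact absurd (hA w w' h0 k k') h0'
    · exact ⟨f, hf, f1, f2⟩
  · right
    rcases fourfix hF.h2 ρ hc hlt with ⟨w', h0', k'⟩ | ⟨f', hf', f1', f2'⟩
    · refine ⟨⟨w', h0', k'⟩, fun w k => ?_, f, hf, f1, f2⟩
      by_contra h0
      exact h0' (hA w w' h0 k k')
    · exact absurd (hB f f' hf f1 f2 f1' f2') hf'

end Cfsg.Agent.H958.SixC
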