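import Mathlib
import Cfsg.Agent.H958.SixC.Conc2
import Cfsg.Agent.H958.SixC.Types

/-!
# S5927, S5928: `sixc_two`, typed 3-dimensional subspaces (helper958)
-/

set_option autoImplicit false

namespace Cfsg.Agent.H958.SixC

open Module

/-- exchange of the two classes of subgroups `A₅` -/
theorem Full.symm {P : Type*} [Group P] {ζ z g₁ g₂ β t a : P} (h : Full ζ z g₁ g₂ β t a) :
    Full ζ z g₂ g₁ β⁻¹ t a where
  cen := h.cen
  cube := h.cube
  beta := by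
    rcases h.beta with rfl | rfl
    · exact Or.inr rfl
    · exact Or.inl (inv_inv _)
  h1 := h.h2
  h2 := by rw [inv_inv]; exact h.h1
  tt := h.tt
  tz := h.tz
  gen12 := by
    rw [← h.gen12]
    congr 1
    ext x
    simp only [Set.mem_insert_iff, Set.mem_singleton_iff]
    tauto
  a3 := h.a3
  a3' := h.a3'
  ta := h.ta
  ta' := h.ta'
  gena := h.gena

end Cfsg.Agent.H958.SixC

namespace Cfsg.Agent.H163.E6.SixC

open Cfsg Cfsg.Lie Module Equiv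
open Cfsg.Agent.ChevalleyStructure.E6Min.Tables Cfsg.Agent.ChevalleyStructure.E6Min.Basic
  Cfsg.Agent.ChevalleyStructure.E6Min.Adjoint
open Cfsg.Agent.H952.F4 (ev es matRep sh cr tf MaxAlt)
open Cfsg.Agent.H958.SixC

universe u

variable {F : Type u} [Field F] {φ : ↥(alternatingGroup (Fin 6)) →* ↥(chevE6.group F)}

/-- 3-dimensional stable subspaces containing a vector fixed by `⟨z, xx z g⟩ ≅ A₅` -/
structure Ty (φ : ↥(alternatingGroup (Fin 6)) →* ↥(chevE6.group F)) (ρ : Representation F ↥(Zgrp F) (I27 → F))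
    (z g : ↥(φ.range.comap (ad F))) (W : Submodule F (I27 → F)) : Prop where
  st : Stab ρ φ.range W
  d : finrank F ↥W = 3
  k : ∃ w ∈ W, w ≠ 0 ∧ KF (rP φ ρ) z g w

/-- span of the products (the same as helper944's `crs`) -/
def crs (S T : Submodule F (I27 → F)) : Submodule F (I27 → F) :=
  Submodule.span F {y | ∃ s ∈ S, ∃ t ∈ T, y = cr s t}

theorem ch_pr {ω : Fˣ} (h1 : ω ≠ 1) (h3 : ω ^ 3 = 1) {ζ : ↥(φ.range.comap (ad F))}
    (hζ : ((ζ : ↥(Zgrp F)) : GL I27 F) = scal ω) {ρ : Representation F ↥(Zgrp F) (I27 → F)} (hρ : ρ = V F ∨ ρ = V' F) :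
    ∃ c : F, Ch (rP φ ρ) ζ c := by
  rcases hρ with rfl | rfl
  · exact ⟨_, ch_V h1 h3 hζ⟩
  · exact ⟨_, ch_V' h1 h3 hζ⟩

/-- the types of a 3-dimensional stable subspace -/
theorem ty_cases [CharP F 2] {ω : Fˣ} (h1 : ω ≠ 1) (h3 : ω ^ 3 = 1) {ζ z g₁ g₂ β t a : ↥(φ.range.comap (ad F))}
    (hF : Full ζ z g₁ g₂ β t a) (hζ : ((ζ : ↥(Zgrp F)) : GL I27 F) = scal ω)
    {ρ : Representation F ↥(Zgrp F) (I27 → F)} (hρ : ρ = V F ∨ ρ = V' F) {W : Submodule F (I27 → F)}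
    (hW : Stab ρ φ.range W) (hd : finrank F ↥W = 3) :
    (Ty φ ρ z g₁ W ∧ ¬ Ty φ ρ z g₂ W) ∨ (Ty φ ρ z g₂ W ∧ ¬ Ty φ ρ z g₁ W) := by
  obtain ⟨c, hc⟩ := ch_pr h1 h3 hζ hρ
  have hst : St (rP φ ρ) W := st_iff.2 hW
  have ht := types (ρ := (rP φ ρ).subrepresentation W (fun g w hw => hst g w hw)) hF (c := c)
    ⟨fun v => Subtype.ext (hc.act v), hc.ne, hc.cube⟩ hd
  have lift : ∀ {g : ↥(φ.range.comap (ad F))} {w : ↥W},
      KF ((rP φ ρ).subrepresentation W (fun g w hw => hst g w hw)) z g w ↔ KF (rP φ ρ) z g (w : I27 → F) := by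
    intro g w
    constructor
    · exact fun h => ⟨congrArg Subtype.val h.1, congrArg Subtype.val h.2⟩
    · exact fun h => ⟨Subtype.ext h.1, Subtype.ext h.2⟩
  rcases ht with ⟨⟨w, h0, k⟩, hno, -⟩ | ⟨⟨w, h0, k⟩, hno, -⟩
  · left
    refine ⟨⟨hW, hd, w, w.2, fun h => h0 (Subtype.ext h), lift.1 k⟩, ?_⟩
    rintro ⟨-, -, w', hw', h0', k'⟩
    exact h0' (congrArg Subtype.val (hno ⟨w', hw'⟩ (lift.2 k')))
  · right
    refine ⟨⟨hW, hd, w, w.2, fun h => h0 (Subtype.ext h), lift.1 k⟩, ?_⟩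
    rintro ⟨-, -, w', hw', h0', k'⟩
    exact h0' (congrArg Subtype.val (hno ⟨w', hw'⟩ (lift.2 k')))

end Cfsg.Agent.H163.E6.SixC
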